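import Cfsg.Agent.H653.LD.TwoOne
import Cfsg.Agent.H593.LD.Fi24Data
import Cfsg.Agent.HKS.CosetTwo

/-!
# A character of `Fi24'` from a `2`-block of `Fi24` with defect group generated by a transposition (helper653)
-/

set_option autoImplicit false

namespace Cfsg.Agent.H653.LD.Fi24B

open Cfsg
open Cfsg.Agent.Blocks.Basic Cfsg.Agent.Characters.Core

/-- transport of an irreducible character along an isomorphism -/
theorem transport {A B : Type} [Group A] [Group B] (e : A ≃* B) (χ : IrrCharacter B) :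
    ∃ ψ : IrrCharacter A, (∀ a, (ψ : A → ℂ) a = (χ : B → ℂ) (e a)) ∧
      charDegree (ψ : A → ℂ) = charDegree (χ : B → ℂ) := by
  refine ⟨⟨fun a => (χ : B → ℂ) (e a), isIrr_comp e.toMonoidHom e.surjective χ.2⟩, fun a => rfl, ?_⟩
  have h : (χ : B → ℂ) (e 1) = (χ : B → ℂ) 1 := by rw [map_one]
  rw [charDegree_def, charDegree_def, ← h]

theorem fac_Fi23 : (4089470473293004800 : ℕ).factorization 2 = 18 := by
  rw [show (4089470473293004800 : ℕ) = 2 ^ 18 * 15600091832325 by norm_num,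
    Nat.factorization_mul (by norm_num) (by norm_num), Finsupp.add_apply, Nat.prime_two.factorization_pow,
    Finsupp.single_eq_same, Nat.factorization_eq_zero_of_not_dvd (by norm_num)]

theorem fac_deg : (504627200 : ℕ).factorization 2 = 18 := by
  rw [show (504627200 : ℕ) = 2 ^ 18 * 1925 by norm_num,
    Nat.factorization_mul (by norm_num) (by norm_num), Finsupp.add_apply, Nat.prime_two.factorization_pow,
    Finsupp.single_eq_same, Nat.factorization_eq_zero_of_not_dvd (by norm_num)]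

theorem fac_index : (306936 : ℕ).factorization 2 = 3 := by
  rw [show (306936 : ℕ) = 2 ^ 3 * 38367 by norm_num,
    Nat.factorization_mul (by norm_num) (by norm_num), Finsupp.add_apply, Nat.prime_two.factorization_pow,
    Finsupp.single_eq_same, Nat.factorization_eq_zero_of_not_dvd (by norm_num)]

/-- **[B1] of the row `Fi24'`**, with the character of `Fi24` -/
theorem exists_psi (hθ : ∃ θ : IrrCharacter Spor.Fi23, charDegree (θ : Spor.Fi23 → ℂ) = 504627200) :
    ∃ (ψ : IrrCharacter Spor.Fi24) (χ : IrrCharacter Spor.Fi24'),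
      (∀ g : Spor.Fi24', (ψ : Spor.Fi24 → ℂ) (g : Spor.Fi24) = (χ : Spor.Fi24' → ℂ) g) ∧
      ((ψ : Spor.Fi24 → ℂ) Cfsg.Agent.H593.LD.Fi24Data.a = 504627200 ∨
        (ψ : Spor.Fi24 → ℂ) Cfsg.Agent.H593.LD.Fi24Data.a = -504627200) ∧
      charDegree (χ : Spor.Fi24' → ℂ) ∣ 2 ^ 21 * 73856475 ∧ 2 ^ 21 ∣ charDegree (χ : Spor.Fi24' → ℂ) := by
  classical
  obtain ⟨θ0, hθ0⟩ := hθ
  obtain ⟨M, hM⟩ := Cfsg.Agent.Blocks.ExistsModular.exists_isPModular Nat.prime_two
  have hfin : Finite Spor.Fi24 := Cfsg.Agent.R08.FiTwentyFour.finite_Fi24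
  set a := Cfsg.Agent.H593.LD.Fi24Data.a with ha
  set T := Cfsg.Agent.H593.LD.Fi24Data.T with hT
  obtain ⟨eT⟩ := Cfsg.Agent.H593.LD.Fi24Data.isoFi23_T
  obtain ⟨θ, -, hθd⟩ := transport eT θ0
  rw [hθ0] at hθd
  have hcT : Nat.card T = 4089470473293004800 := Cfsg.Agent.H593.LD.Fi24Data.card_T
  obtain ⟨χ, ε, hε, hχa, hχ2, hχd⟩ := TwoOne.exists_two hM (u := a) Cfsg.Agent.H593.LD.Fi24Data.orderOf_a
    (C := Subgroup.centralizer ({a} : Set Spor.Fi24)) (T := T) rfl Cfsg.Agent.H593.LD.Fi24Data.T_le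
    Cfsg.Agent.H593.LD.Fi24Data.card_cent Cfsg.Agent.H593.LD.Fi24Data.a_notMem_T θ
    (by rw [hθd, hcT, fac_deg, fac_Fi23])
  rw [Cfsg.Agent.H593.LD.Fi24Data.index_cent, hθd] at hχd
  have hcG : (Nat.card Spor.Fi24).factorization 2 = 22 := by
    rw [Cfsg.Agent.H593.LD.Fi24Data.card_Fi24, Nat.factorization_mul (by norm_num) (by norm_num),
      Nat.factorization_mul (by norm_num) (by norm_num), Finsupp.add_apply, Finsupp.add_apply, fac_index,
      fac_Fi23, Nat.prime_two.factorization_self]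
    norm_num
  rw [hcG] at hχ2
  have hne : (χ : Spor.Fi24 → ℂ) a ≠ 0 := by
    rw [hχa]
    refine mul_ne_zero ?_ (isIrr_apply_one_ne_zero θ.2)
    rcases hε with h | h <;> rw [h] <;> norm_num
  have hval : (χ : Spor.Fi24 → ℂ) a = ε * 504627200 := by
    rw [hχa, Cfsg.Agent.Blocks.Basic.irr_one_eq_charDegree θ.2, hθd]
    norm_num
  have hirr := Cfsg.Agent.HKS.CosetTwo.isIrr_restrict (W := Spor.Fi24) (D := commutator Spor.Fi24)
    Cfsg.Agent.R08.FiTwentyFour.index_commutator χ.2 Cfsg.Agent.H593.LD.Fi24Data.a_notMem hne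
  have hd : charDegree (fun g : Spor.Fi24' => (χ : Spor.Fi24 → ℂ) (g : Spor.Fi24)) =
      charDegree (χ : Spor.Fi24 → ℂ) := by
    rw [charDegree_def, charDegree_def]
    rfl
  refine ⟨χ, ⟨_, hirr⟩, fun g => rfl, ?_, ?_, ?_⟩
  · rcases hε with h | h
    · left; rw [hval, h]; norm_num
    · right; rw [hval, h]; norm_num
  · change charDegree (fun g : Spor.Fi24' => (χ : Spor.Fi24 → ℂ) (g : Spor.Fi24)) ∣ _
    rw [hd]
    refine hχd.trans (by norm_num)
  · change _ ∣ charDegree (fun g : Spor.Fi24' => (χ : Spor.Fi24 → ℂ) (g : Spor.Fi24))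
    rw [hd]
    exact (Nat.prime_two.pow_dvd_iff_le_factorization (charDegree_pos χ.2).ne').2 (by omega)

/-- **[B1] of the row `Fi24'`** -/
theorem exists_b (hθ : ∃ θ : IrrCharacter Spor.Fi23, charDegree (θ : Spor.Fi23 → ℂ) = 504627200) :
    ∃ χ : IrrCharacter Spor.Fi24', charDegree (χ : Spor.Fi24' → ℂ) ∣ 2 ^ 21 * 3 ^ 3 * 5 ^ 2 * 7 ^ 3 * 11 * 29 ∧
      2 ^ 21 ∣ charDegree (χ : Spor.Fi24' → ℂ) := by
  obtain ⟨-, χ, -, -, h1, h2⟩ := exists_psi hθ
  exact ⟨χ, h1.trans (by norm_num), h2⟩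

end Cfsg.Agent.H653.LD.Fi24B
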