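import Cfsg.Agent.H66.LD.Three

/-!
# A `2`-block of defect one with a centralizer `⟨u⟩ × T` (helper653)

`u` an involution of `G` with `C_G(u) = ⟨u⟩ × T` and `θ` an irreducible character of `T` of `2`-defect zero: there is
an irreducible character `χ` of `G` with `χ u = ± θ 1`, in a `2`-block with defect group `⟨u⟩`; its degree divides
`|G : C| θ(1)` and its `2`-part is at least `|G|_2 / 2`.
-/

set_option autoImplicit false

namespace Cfsg.Agent.H653.LD.TwoOne

open Cfsg
open Cfsg.Agent.Blocks.Basic Cfsg.Agent.Blocks.Local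
open Cfsg.Agent.Characters.Core
open Cfsg.Agent.H66.LD.Three (exists_equiv exists_block dvd_of_isIntegral eq_of_gram eq_zero_of_dvd exists_ext)
open scoped ComplexConjugate

universe v

variable {G : Type v} [Group G]

theorem eq_of_mem_zpowers {u : G} (hu : orderOf u = 2) {x : G} (hx : x ∈ Subgroup.zpowers u) : x = 1 ∨ x = u := by
  obtain ⟨k, rfl⟩ := Subgroup.mem_zpowers_iff.1 hx
  have h2 : u ^ (2 : ℤ) = 1 := by
    have h := pow_orderOf_eq_one u
    rw [hu] at h
    exact_mod_cast h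
  rcases Int.even_or_odd' k with ⟨m, rfl | rfl⟩
  · left
    rw [zpow_mul, h2, one_zpow]
  · right
    rw [zpow_add, zpow_mul, h2, one_zpow, one_mul, zpow_one]

/-- The inner product of `t ↦ χ (u t)` with a character of `T` is an integer. -/
theorem exists_int [Finite G] {u : G} (hu : orderOf u = 2) {C T : Subgroup G} [Fintype T]
    (E : (Subgroup.zpowers u) × T ≃* C)
    (hE : ∀ (x : Subgroup.zpowers u) (t : T), ((E (x, t) : C) : G) = x * t)
    {θ : T → ℂ} (hθ : IsCharacter T θ) {χ : G → ℂ} (hχ : IsCharacter G χ) :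
    ∃ a : ℤ, classInner (fun t : T => χ (u * t)) θ = a := by
  classical
  have : Fintype C := Fintype.ofFinite C
  have : Fintype (Subgroup.zpowers u) := Fintype.ofFinite _
  have hf1 : IsCharacter C (θ ∘ ((MonoidHom.snd (Subgroup.zpowers u) T).comp E.symm.toMonoidHom)) :=
    isCharacter_comp _ hθ
  have hres : IsCharacter C (χ ∘ C.subtype) := isCharacter_comp C.subtype hχ
  have hresT : IsCharacter T (χ ∘ T.subtype) := isCharacter_comp T.subtype hχ
  obtain ⟨m0, hm0⟩ := classInner_isNat hres hf1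
  obtain ⟨m1, hm1⟩ := classInner_isNat hresT hθ
  obtain ⟨S, hS⟩ : ∃ S : G → ℂ, ∀ x, S x = ∑ t : T, χ (x * t) * conj (θ t) := ⟨_, fun x => rfl⟩
  have hne : (1 : G) ≠ u := by
    intro h
    rw [← h, orderOf_one] at hu
    omega
  have hsumz : ∑ x : Subgroup.zpowers u, S x = S 1 + S u := by
    have h1 : ∑ x : Subgroup.zpowers u, S x = ∑ x ∈ ({1, u} : Finset G), S x := by
      refine (Finset.sum_subtype ({1, u} : Finset G) (fun x => ?_) S).symm
      rw [Finset.mem_insert, Finset.mem_singleton]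
      constructor
      · rintro (rfl | rfl)
        · exact one_mem _
        · exact Subgroup.mem_zpowers _
      · exact fun h => eq_of_mem_zpowers hu h
    rw [h1, Finset.sum_pair hne]
  have hA : ∑ c : C, (χ ∘ C.subtype) c *
      conj ((θ ∘ ((MonoidHom.snd (Subgroup.zpowers u) T).comp E.symm.toMonoidHom)) c) = S 1 + S u := by
    rw [← hsumz]
    simp only [hS]
    rw [← Fintype.sum_prod_type (fun q : (Subgroup.zpowers u) × T => χ ((q.1 : G) * q.2) * conj (θ q.2))]
    refine Fintype.sum_equiv E.symm.toEquiv _ _ fun c => ?_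
    have h1 : (c : G) = ((E.symm c).1 : G) * (E.symm c).2 := by
      rw [← hE, Prod.mk.eta, MulEquiv.apply_symm_apply]
    change χ (c : G) * conj (θ (E.symm c).2) = χ (((E.symm c).1 : G) * (E.symm c).2) * conj (θ (E.symm c).2)
    rw [← h1]
  have hB : ∑ t : T, (χ ∘ T.subtype) t * conj (θ t) = S 1 := by
    rw [hS]
    refine Fintype.sum_congr _ _ fun t => ?_
    rw [one_mul]
    rfl
  rw [Characters.Core.classInner_def, hA] at hm0
  rw [Characters.Core.classInner_def, hB] at hm1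
  have hcardC : (Nat.card C : ℂ) = 2 * Nat.card T := by
    rw [← Nat.card_congr E.toEquiv, Nat.card_prod, Nat.card_zpowers, hu]
    push_cast
    ring
  have hT0 : (Nat.card T : ℂ) ≠ 0 := by exact_mod_cast Nat.card_pos.ne'
  refine ⟨2 * (m0 : ℤ) - m1, ?_⟩
  rw [Characters.Core.classInner_def]
  change (Nat.card T : ℂ)⁻¹ * ∑ t : T, χ (u * t) * conj (θ t) = _
  rw [← hS]
  push_cast
  rw [← hm0, ← hm1, hcardC]
  field_simp
  ring

/-- **The block with defect group `⟨u⟩`.** -/
theorem exists_two [Finite G] {M : Ideal AlgInt} (hM : IsPModular 2 M) {u : G} (hu : orderOf u = 2)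
    {C T : Subgroup G} (hC : C = Subgroup.centralizer ({u} : Set G)) (hTC : T ≤ C)
    (hcard : Nat.card C = 2 * Nat.card T) (huT : u ∉ T) (θ : IrrCharacter T)
    (hθ : (charDegree (θ : T → ℂ)).factorization 2 = (Nat.card T).factorization 2) :
    ∃ (χ : IrrCharacter G) (ε : ℤ), (ε = 1 ∨ ε = -1) ∧ (χ : G → ℂ) u = ε * (θ : T → ℂ) 1 ∧
      (Nat.card G).factorization 2 ≤ (charDegree (χ : G → ℂ)).factorization 2 + 1 ∧
      charDegree (χ : G → ℂ) ∣ C.index * charDegree (θ : T → ℂ) := by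
  classical
  have hp2 : Fact (Nat.Prime 2) := ⟨Nat.prime_two⟩
  have hMp : M.IsPrime := isPrime_of_isPModular hM
  obtain ⟨E, hE⟩ := exists_equiv hu hC hTC hcard huT
  obtain ⟨θ', hθ'⟩ := exists_ext E hE θ
  have huQ : u ∈ Subgroup.zpowers u := Subgroup.mem_zpowers u
  have hθ1 : (θ' : C → ℂ) 1 = (θ : T → ℂ) 1 := hθ' 1 1 1 (one_mem _) (by simp)
  have hker : ∀ y : C, (y : G) ∈ Subgroup.zpowers u → (θ' : C → ℂ) y = (θ' : C → ℂ) 1 := by
    intro y hy
    rw [hθ1]
    exact hθ' y y 1 hy (by simp)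
  have hcd : charDegree (θ' : C → ℂ) = charDegree (θ : T → ℂ) := by
    rw [Blocks.Basic.charDegree_def, Blocks.Basic.charDegree_def, hθ1]
  have hdeg : (Nat.card C).factorization 2 ≤ (charDegree (θ' : C → ℂ)).factorization 2 + 1 := by
    rw [hcd, hθ, hcard, Nat.factorization_mul (by norm_num) Nat.card_pos.ne', Finsupp.add_apply,
      Nat.prime_two.factorization_self, add_comm]
  have hconj : ∀ g ∈ Subgroup.normalizer ((Subgroup.zpowers u : Subgroup G) : Set G), ∀ c c' : C,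
      (c' : G) = g * (c : G) * g⁻¹ → (θ' : C → ℂ) c' = (θ' : C → ℂ) c := by
    intro g hg c c' hcc
    have h1 : g * u * g⁻¹ ∈ Subgroup.zpowers u := (Subgroup.mem_normalizer_iff.1 hg u).1 huQ
    have h2 : g * u * g⁻¹ = u := by
      rcases eq_of_mem_zpowers hu h1 with h2 | h2
      · exfalso
        rw [conj_eq_one_iff] at h2
        rw [h2, orderOf_one] at hu
        norm_num at hu
      · exact h2
    have hgC : g ∈ C := by
      rw [hC, Subgroup.mem_centralizer_singleton_iff]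
      exact mul_inv_eq_iff_eq_mul.1 h2
    have h3 : c' = ⟨g, hgC⟩ * c * ⟨g, hgC⟩⁻¹ := Subtype.ext hcc
    rw [h3]
    exact isIrr_isClassFunction θ'.2 c ⟨g, hgC⟩
  obtain ⟨B, hBb, hdef, -, hgram⟩ := exists_block hM hu hC θ' hker hdeg hconj
  have hfin : Finite (IrrCharacter G) := finite_irr
  have hft := Fintype.ofFinite (IrrCharacter G)
  have hfT : Fintype T := Fintype.ofFinite T
  -- the sum formula for elements of `T`
  have hsum : ∀ y y' : T, ¬ 2 ∣ orderOf y → ¬ 2 ∣ orderOf y' →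
      ∑ χ : IrrCharacter G with χ ∈ B, (χ : G → ℂ) (u * y) * conj ((χ : G → ℂ) (u * y')) =
        2 * ((θ : T → ℂ) y * conj ((θ : T → ℂ) y')) := by
    intro y y' hy hy'
    have o : ∀ w : T, orderOf (⟨w, hTC w.2⟩ : C) = orderOf w := by
      intro w
      rw [Subgroup.orderOf_mk, Subgroup.orderOf_coe]
    have h1 := hgram ⟨y, hTC y.2⟩ ⟨y', hTC y'.2⟩ (by rw [o]; exact hy) (by rw [o]; exact hy')
    rw [hθ' ⟨y, hTC y.2⟩ 1 y (one_mem _) (by simp), hθ' ⟨y', hTC y'.2⟩ 1 y' (one_mem _) (by simp),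
      finsum_mem_eq_finite_toFinset_sum _ (Set.toFinite B)] at h1
    rw [show ((2 : ℕ) : ℂ) = 2 by norm_num] at h1
    rw [← h1]
    refine Finset.sum_congr (by ext; simp) fun χ _ => rfl
  have h31 : ¬ 2 ∣ orderOf (1 : T) := by rw [orderOf_one]; norm_num
  have hθ0 : (θ : T → ℂ) 1 ≠ 0 := isIrr_apply_one_ne_zero θ.2
  have hprop : ∀ χ ∈ B, ∀ t : T, ¬ 2 ∣ orderOf t →
      (θ : T → ℂ) 1 * (χ : G → ℂ) (u * t) = (θ : T → ℂ) t * (χ : G → ℂ) u := by
    intro χ hχ t ht
    have h1 := eq_of_gram (Finset.univ.filter (fun χ : IrrCharacter G => χ ∈ B))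
      (fun χ => (χ : G → ℂ) (u * t)) (fun χ => (χ : G → ℂ) (u * ((1 : T) : G)))
      ((θ : T → ℂ) t) ((θ : T → ℂ) 1) 2 (hsum t t ht ht) (hsum t 1 ht h31) (hsum 1 t h31 ht)
      (hsum 1 1 h31 h31) χ (by simp [hχ])
    simpa using h1
  -- the integers
  have hint : ∀ χ : IrrCharacter G, ∃ a : ℤ, χ ∈ B → (χ : G → ℂ) u = a * (θ : T → ℂ) 1 := by
    intro χ
    obtain ⟨a, ha⟩ := exists_int hu E hE (isIrr_isCharacter θ.2) (isIrr_isCharacter χ.2)
    refine ⟨a, fun hχ => ?_⟩
    have h1 : ∀ t : T, (χ : G → ℂ) (u * t) * conj ((θ : T → ℂ) t) =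
        (χ : G → ℂ) u / (θ : T → ℂ) 1 * ((θ : T → ℂ) t * conj ((θ : T → ℂ) t)) := by
      intro t
      by_cases ht : 2 ∣ orderOf t
      · rw [eq_zero_of_dvd hM θ hθ ht]
        simp
      · have h2 := hprop χ hχ t ht
        field_simp
        linear_combination (conj ((θ : T → ℂ) t)) * h2
    rw [Characters.Core.classInner_def, Finset.sum_congr rfl fun t _ => h1 t, ← Finset.mul_sum] at ha
    have h3 := classInner_irr_self θ.2
    rw [Characters.Core.classInner_def] at h3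
    rw [← ha]
    field_simp
    have h4 : (Nat.card T : ℂ) ≠ 0 := by exact_mod_cast Nat.card_pos.ne'
    field_simp at h3
    rw [h3]
  choose a ha using hint
  have hcθ : conj ((θ : T → ℂ) 1) = (θ : T → ℂ) 1 := by
    rw [irr_one_eq_charDegree θ.2, Complex.conj_natCast]
  have hsq : ∑ χ : IrrCharacter G with χ ∈ B, a χ ^ 2 = 2 := by
    have h1 := hsum 1 1 h31 h31
    have h2 : ∑ χ : IrrCharacter G with χ ∈ B,
        (χ : G → ℂ) (u * ((1 : T) : G)) * conj ((χ : G → ℂ) (u * ((1 : T) : G))) =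
        ((∑ χ : IrrCharacter G with χ ∈ B, a χ ^ 2 : ℤ) : ℂ) * ((θ : T → ℂ) 1 * (θ : T → ℂ) 1) := by
      rw [Int.cast_sum, Finset.sum_mul]
      refine Finset.sum_congr rfl fun χ hχ => ?_
      rw [Subgroup.coe_one, mul_one, ha χ (Finset.mem_filter.1 hχ).2, map_mul, hcθ, map_intCast, Int.cast_pow]
      ring
    rw [h2, hcθ] at h1
    have h3 := mul_right_cancel₀ (mul_ne_zero hθ0 hθ0) h1
    exact_mod_cast h3
  -- a character with `a χ ≠ 0`
  obtain ⟨χ, hχ, hχ0⟩ : ∃ χ ∈ Finset.univ.filter (fun χ : IrrCharacter G => χ ∈ B), a χ ^ 2 ≠ 0 := by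
    by_contra hno
    push Not at hno
    rw [Finset.sum_eq_zero hno] at hsq
    omega
  have hχB : χ ∈ B := (Finset.mem_filter.1 hχ).2
  have hε : a χ = 1 ∨ a χ = -1 := by
    have h1 : a χ ^ 2 ≤ 2 := by
      rw [← hsq]
      exact Finset.single_le_sum (f := fun χ => a χ ^ 2) (fun i _ => sq_nonneg _) hχ
    have h2 : a χ ≠ 0 := by
      intro h
      rw [h] at hχ0
      exact hχ0 (by norm_num)
    have h3 : a χ < 2 := by nlinarith
    have h4 : -2 < a χ := by nlinarith
    omega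
  refine ⟨χ, a χ, hε, ha χ hχB, ?_, ?_⟩
  · have h1 := Cfsg.Agent.H592.Defect.le_degree_add 2 hM hBb hdef hχB
    rwa [Nat.card_zpowers, hu, Nat.prime_two.factorization_self] at h1
  · have h1 := Cfsg.Agent.Blocks.Central.isIntegral_centralChar χ.2 u
    have h2 : centralChar (χ : G → ℂ) u =
        ((C.index * charDegree (θ : T → ℂ) : ℕ) : ℂ) * (a χ : ℤ) / ((charDegree (χ : G → ℂ) : ℕ) : ℂ) := by
      unfold centralChar
      rw [ha _ hχB, irr_one_eq_charDegree θ.2, irr_one_eq_charDegree χ.2, ← hC]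
      push_cast
      ring
    rw [h2] at h1
    exact dvd_of_isIntegral hε (charDegree_pos χ.2).ne' h1

end Cfsg.Agent.H653.LD.TwoOne
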